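import Cfsg.Agent.Lib.BenderQ.Bridge
import Cfsg.Agent.Lib.BenderQ.Bender
import Mathlib.GroupTheory.Sylow
import Mathlib.GroupTheory.Solvable

/-!
A subgroup `M` containing the centraliser of the involution `z` and controlling the fusion of `z` is
everything, if for every nontrivial 2-subgroup `T` of `M` free of conjugates of `z` either two kinds of
involutions of the normaliser modulo `T` occur (with and without a conjugate of `z` in the coset) or
this normaliser is not solvable and has a four group modulo `T`, or two involutions modulo `T`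
centralising `T` are not conjugate modulo `T` under the centraliser of `T` in `M`.

Proof: take `T` maximal fixing two cosets of `M`; modulo `T` the normaliser in `M` is strongly embedded in
the normaliser, so it has one class of involutions, and by Bender it is solvable or of 2-rank one.
-/

set_option autoImplicit false
set_option linter.unusedSectionVars false

universe u

namespace CfsgLib.HeUnique

variable {G : Type u} [Group G]

/-- `T` contains no conjugate of `z`. -/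
def Free (z : G) (T : Subgroup G) : Prop := ∀ t ∈ T, ¬ IsConj z t

/-- the coset of `x` by `T` contains a conjugate of `z` -/
def Marked (z : G) (T : Subgroup G) (x : G) : Prop := ∃ t ∈ T, IsConj z (x * t)

/-- both kinds of involutions occur modulo `T` -/
def Kinds (z : G) (M T : Subgroup G) : Prop :=
  ∃ x ∈ M ⊓ Subgroup.normalizer (T : Set G), ∃ y ∈ M ⊓ Subgroup.normalizer (T : Set G),
    x * x ∈ T ∧ x ∉ T ∧ y * y ∈ T ∧ y ∉ T ∧ Marked z T x ∧ ¬ Marked z T y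

/-- the normaliser is not solvable and has a four group modulo `T` -/
def Wide (M T : Subgroup G) : Prop :=
  ¬ Group.IsSolvable ↥(M ⊓ Subgroup.normalizer (T : Set G)) ∧
  ∃ x ∈ M ⊓ Subgroup.normalizer (T : Set G), ∃ y ∈ M ⊓ Subgroup.normalizer (T : Set G),
    x * x ∈ T ∧ x ∉ T ∧ y * y ∈ T ∧ y ∉ T ∧ x⁻¹ * y ∉ T ∧ (y * x)⁻¹ * (x * y) ∈ T

/-- two involutions modulo `T` centralising `T` are not conjugate under the centraliser in `M` -/
def Central (M T : Subgroup G) : Prop :=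
  ∃ x ∈ M ⊓ Subgroup.centralizer (T : Set G), ∃ y ∈ M ⊓ Subgroup.centralizer (T : Set G),
    x * x ∈ T ∧ x ∉ T ∧ y * y ∈ T ∧ y ∉ T ∧
      ∀ c ∈ M ⊓ Subgroup.centralizer (T : Set G), y⁻¹ * (c * x * c⁻¹) ∉ T

/-- A subgroup containing the centralisers of its involutions: an involution outside is conjugate to
each involution inside. -/
theorem isConj_outside [Finite G] {H : Subgroup G}
    (hC : ∀ v ∈ H, v * v = 1 → v ≠ 1 → ∀ c, c * v = v * c → c ∈ H)
    {u v : G} (hu : u * u = 1) (huH : u ∉ H) (hv : v * v = 1) (hv1 : v ≠ 1) (hvH : v ∈ H) :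
    IsConj v u := by
  have hui : u⁻¹ = u := inv_eq_of_mul_eq_one_right hu
  have hvi : v⁻¹ = v := inv_eq_of_mul_eq_one_right hv
  have hinv : (v * u)⁻¹ = u * v := by rw [mul_inv_rev, hui, hvi]
  rcases Nat.even_or_odd (orderOf (v * u)) with ⟨k, hk⟩ | ⟨k, hk⟩
  · exfalso
    have hpos := orderOf_pos (v * u)
    set w := (v * u) ^ k with hw
    have hw2 : w * w = 1 := by rw [hw, ← pow_add, ← hk, pow_orderOf_eq_one]
    have hw1 : w ≠ 1 := pow_ne_one_of_lt_orderOf (by omega) (by omega)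
    have hwinv : ((v * u) ^ k)⁻¹ = w := inv_eq_of_mul_eq_one_right hw2
    have hvw : w * v = v * w := by
      have h1 : v * (v * u) ^ k * v⁻¹ = ((v * u)⁻¹) ^ k := by
        rw [← conj_pow, hinv, hvi, ← mul_assoc v v u, hv, one_mul]
      rw [inv_pow, hwinv] at h1
      exact (mul_inv_eq_iff_eq_mul.1 h1).symm
    have huw : u * w = w * u := by
      have h1 : u * (v * u) ^ k * u⁻¹ = ((v * u)⁻¹) ^ k := by
        rw [← conj_pow, hinv, hui, mul_assoc u (v * u) u, mul_assoc v u u, hu, mul_one]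
      rw [inv_pow, hwinv] at h1
      exact mul_inv_eq_iff_eq_mul.1 h1
    exact huH (hC w (hC v hvH hv hv1 w hvw) hw2 hw1 u huw)
  · refine isConj_iff.2 ⟨((v * u) ^ (k + 1))⁻¹, ?_⟩
    have hodd : (v * u) ^ (k + 1) * (v * u) ^ (k + 1) = v * u := by
      rw [← pow_add, show k + 1 + (k + 1) = orderOf (v * u) + 1 by omega, pow_succ,
        pow_orderOf_eq_one, one_mul]
    set s := (v * u) ^ (k + 1) with hs
    have h1 : v * s * v⁻¹ = s⁻¹ := by
      rw [hs, ← conj_pow, ← inv_pow, hinv, hvi, ← mul_assoc v v u, hv, one_mul]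
    have h2 : v * s = s⁻¹ * v := mul_inv_eq_iff_eq_mul.1 h1
    calc s⁻¹ * v * s⁻¹⁻¹ = s⁻¹ * (v * s) := by rw [inv_inv, mul_assoc]
      _ = (s * s)⁻¹ * v := by rw [h2, mul_inv_rev, mul_assoc]
      _ = u := by rw [hodd, hinv, mul_assoc, hv, mul_one]

/-- In a group with an involution having no conjugate in the 2-subgroup `T`, some element induces an
involution on `T` modulo `T`. -/
theorem exists_grow [Finite G] {B T : Subgroup G} (hT : IsPGroup 2 T) (hTB : T ≤ B) {v : G} (hv : v ∈ B)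
    (hv2 : orderOf v = 2) (hno : ∀ b ∈ B, b * v * b⁻¹ ∉ T) :
    ∃ r ∈ B ⊓ Subgroup.normalizer (T : Set G), r * r ∈ T ∧ r ∉ T := by
  classical
  have : Fact (Nat.Prime 2) := ⟨Nat.prime_two⟩
  have hT' : IsPGroup 2 (T.subgroupOf B) := hT.comap_of_injective B.subtype B.subtype_injective
  obtain ⟨S, hS⟩ := hT'.exists_le_sylow
  have hne : T.subgroupOf B ≠ (S : Subgroup B) := by
    intro he
    have hv' : orderOf (⟨v, hv⟩ : B) = 2 := by rw [← Subgroup.orderOf_coe]; exact hv2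
    have hP : IsPGroup 2 (Subgroup.zpowers (⟨v, hv⟩ : B)) :=
      IsPGroup.of_card (n := 1) (by rw [Nat.card_zpowers, hv', pow_one])
    obtain ⟨R, hR⟩ := hP.exists_le_sylow
    obtain ⟨b, hb⟩ := MulAction.exists_smul_eq B R S
    refine hno b b.2 ?_
    have hmem : b * (⟨v, hv⟩ : B) * b⁻¹ ∈ (S : Subgroup B) := by
      rw [← hb, Sylow.coe_subgroup_smul]
      exact Subgroup.smul_mem_pointwise_smul _ (MulAut.conj b) _ (hR (Subgroup.mem_zpowers _))
    rw [← he, Subgroup.mem_subgroupOf] at hmem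
    exact hmem
  have hlt : (T.subgroupOf B).subgroupOf (S : Subgroup B) < ⊤ := by
    refine lt_top_iff_ne_top.2 fun h => hne ?_
    exact le_antisymm hS fun s hs => (h.ge (Subgroup.mem_top (⟨s, hs⟩ : (S : Subgroup B))) :)
  haveI : Group.IsNilpotent (S : Subgroup B) := S.isPGroup'.isNilpotent
  obtain ⟨r, hr, hr'⟩ := SetLike.exists_of_lt (Group.normalizerCondition_of_isNilpotent _ hlt)
  have hrN : ((r : B) : G) ∈ Subgroup.normalizer (T : Set G) := by
    rw [Subgroup.mem_normalizer_iff]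
    intro t
    constructor
    · intro ht
      exact (Subgroup.mem_normalizer_iff.1 hr ⟨⟨t, hTB ht⟩, hS ht⟩).1 ht
    · intro ht
      have htB : t ∈ B := by
        have h := B.mul_mem (B.mul_mem (B.inv_mem (r : B).2) (hTB ht)) (r : B).2
        rwa [show ((r : B) : G)⁻¹ * (((r : B) : G) * t * ((r : B) : G)⁻¹) * ((r : B) : G) = t by group] at h
      have htS : (⟨t, htB⟩ : B) ∈ (S : Subgroup B) := by
        have h : (⟨((r : B) : G) * t * ((r : B) : G)⁻¹, hTB ht⟩ : B) ∈ (S : Subgroup B) := hS ht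
        have h' := mul_mem (mul_mem (inv_mem r.2) h) r.2
        rwa [show (r : B)⁻¹ * ⟨((r : B) : G) * t * ((r : B) : G)⁻¹, hTB ht⟩ * r = ⟨t, htB⟩ from
          Subtype.ext (show ((r : B) : G)⁻¹ * (((r : B) : G) * t * ((r : B) : G)⁻¹) * ((r : B) : G) = t by group)] at h'
      exact (Subgroup.mem_normalizer_iff.1 hr ⟨⟨t, htB⟩, htS⟩).2 ht
  obtain ⟨j, hj⟩ := S.isPGroup' r
  have hex : ∃ i, ((r : B) : G) ^ 2 ^ i ∈ T :=
    ⟨j, by rw [show ((r : B) : G) ^ 2 ^ j = 1 from congrArg (fun x : (S : Subgroup B) => ((x : B) : G)) hj]; exact one_mem T⟩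
  obtain ⟨i, hi⟩ : ∃ i, Nat.find hex = i + 1 := by
    refine ⟨Nat.find hex - 1, ?_⟩
    have h0 : Nat.find hex ≠ 0 := fun e => hr' (by
      have := Nat.find_spec hex
      rw [e, pow_zero, pow_one] at this
      exact this)
    omega
  refine ⟨((r : B) : G) ^ 2 ^ i, ⟨pow_mem (r : B).2 _, pow_mem hrN _⟩, ?_, Nat.find_min hex (by omega)⟩
  rw [← pow_add, ← two_mul, ← pow_succ', ← hi]
  exact Nat.find_spec hex

variable [Finite G] {z : G} {M : Subgroup G}

/-- **The endgame.** -/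
theorem eq_top (hz : orderOf z = 2) (hC : Subgroup.centralizer ({z} : Set G) ≤ M)
    (hfus : ∀ u ∈ M, IsConj z u → ∃ m ∈ M, m * z * m⁻¹ = u)
    {w : G} (hwM : w ∈ M) (hw : orderOf w = 2) (hwz : ¬ IsConj z w)
    (hT : ∀ T : Subgroup G, T ≤ M → IsPGroup 2 T → T ≠ ⊥ → Free z T → Kinds z M T ∨ Wide M T ∨ Central M T) :
    M = ⊤ := by
  classical
  by_contra htop
  have hzM : z ∈ M := hC (Subgroup.mem_centralizer_singleton_iff.2 rfl)
  have sq : ∀ {a : G}, orderOf a = 2 → a * a = 1 := fun h => by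
    rw [← pow_two, ← h, pow_orderOf_eq_one]
  -- a conjugate of `z` in `M` and in a conjugate of `M`
  have htwo : ∀ g : G, ∀ u : G, IsConj z u → u ∈ M → g⁻¹ * u * g ∈ M → g ∈ M := by
    intro g u hu huM hug
    obtain ⟨m, hm, hmu⟩ := hfus u huM hu
    obtain ⟨m', hm', hm'u⟩ := hfus _ hug (hu.trans (isConj_iff.2 ⟨g⁻¹, by group⟩))
    have h1 : m⁻¹ * (g * m') ∈ M := hC (by
      rw [Subgroup.mem_centralizer_singleton_iff]
      calc m⁻¹ * (g * m') * z = m⁻¹ * (g * (m' * z * m'⁻¹) * g⁻¹) * (g * m') := by group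
        _ = m⁻¹ * (m * z * m⁻¹) * (g * m') := by rw [hm'u, hmu]; group
        _ = z * (m⁻¹ * (g * m')) := by group)
    have h2 := mul_mem (mul_mem hm h1) (inv_mem hm')
    rwa [show m * (m⁻¹ * (g * m')) * m'⁻¹ = g by group] at h2
  obtain ⟨g₀, hg₀⟩ := SetLike.exists_of_lt (lt_top_iff_ne_top.2 htop)
  -- the family
  let E : Set (Subgroup G) := {T | T ≤ M ∧ IsPGroup 2 T ∧ ∃ g : G, g ∉ M ∧ ∀ t ∈ T, g⁻¹ * t * g ∈ M}
  have hbot : (⊥ : Subgroup G) ∈ E := ⟨bot_le, IsPGroup.of_bot, g₀, hg₀.2, fun t ht => by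
    rw [Subgroup.mem_bot.1 ht, mul_one, inv_mul_cancel]; exact one_mem M⟩
  obtain ⟨T, hTE, hmax⟩ := (Set.toFinite E).exists_maximalFor (fun T : Subgroup G => Nat.card T) _ ⟨⊥, hbot⟩
  obtain ⟨hTM, hT2, g, hg, hTg⟩ := hTE
  have hfree : Free z T := fun t ht hc => hg (htwo g t hc (hTM ht) (hTg t ht))
  set N := Subgroup.normalizer (T : Set G)
  have : Fact (Nat.Prime 2) := ⟨Nat.prime_two⟩
  -- no involution of `N ⊓ M` modulo `T` fixes two cosets
  have hgrow : ∀ y ∈ M ⊓ N, y * y ∈ T → y ∉ T → ∀ n : G, (∀ t ∈ T, n⁻¹ * t * n ∈ M) →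
      n⁻¹ * y * n ∈ M → n ∈ M := by
    intro y hy hyy hyT n hnT hny
    by_contra hn
    have hyp : IsPGroup 2 (Subgroup.zpowers y) := by
      obtain ⟨j, hj⟩ := hT2 ⟨y * y, hyy⟩
      obtain ⟨i, -, hi⟩ := (Nat.dvd_prime_pow Nat.prime_two).1 (orderOf_dvd_of_pow_eq_one (n := 2 ^ (j + 1))
        (show y ^ 2 ^ (j + 1) = 1 by
          rw [pow_succ', pow_mul, pow_two]; exact congrArg Subtype.val hj))
      exact IsPGroup.of_card (n := i) (by rw [Nat.card_zpowers, hi])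
    have hR2 : IsPGroup 2 (Subgroup.zpowers y ⊔ T : Subgroup G) :=
      IsPGroup.to_sup_of_normal_right' hyp hT2 (Subgroup.zpowers_le.2 hy.2)
    have hRE : (Subgroup.zpowers y ⊔ T : Subgroup G) ∈ E := by
      refine ⟨sup_le (Subgroup.zpowers_le.2 hy.1) hTM, hR2, n, hn, ?_⟩
      have hle : (Subgroup.zpowers y ⊔ T : Subgroup G) ≤ M.comap (MulAut.conj n⁻¹).toMonoidHom :=
        sup_le (Subgroup.zpowers_le.2 (by
          show n⁻¹ * y * n⁻¹⁻¹ ∈ M
          rwa [inv_inv])) fun t ht => by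
          show n⁻¹ * t * n⁻¹⁻¹ ∈ M
          rw [inv_inv]; exact hnT t ht
      intro t ht
      have h : n⁻¹ * t * n⁻¹⁻¹ ∈ M := hle ht
      rwa [inv_inv] at h
    have hlt : Nat.card T < Nat.card ↥(Subgroup.zpowers y ⊔ T : Subgroup G) := by
      refine Nat.lt_of_not_le fun h => hyT ?_
      have e := Subgroup.eq_of_le_of_card_ge (le_sup_right : T ≤ Subgroup.zpowers y ⊔ T) h
      exact e.ge (Subgroup.mem_sup_left (Subgroup.mem_zpowers y))
    exact absurd (hmax hRE hlt.le) (not_le.2 hlt)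
  -- an involution modulo `T` in `N ⊓ M`
  obtain ⟨y₀, hy₀, hy₀2, hy₀T⟩ := exists_grow hT2 hTM hzM hz fun b _ h =>
    hfree _ h (isConj_iff.2 ⟨b, rfl⟩)
  -- an involution modulo `T` in `N` outside `M`
  let B := M.map (MulAut.conj g).toMonoidHom
  have hTB : T ≤ B := fun t ht => ⟨g⁻¹ * t * g, hTg t ht, show g * (g⁻¹ * t * g) * g⁻¹ = t by group⟩
  obtain ⟨r, hr, hr2, hrT⟩ := exists_grow hT2 hTB (v := g * z * g⁻¹) ⟨z, hzM, rfl⟩
    (by rw [← hz]; exact orderOf_injective (MulAut.conj g).toMonoidHom (MulAut.conj g).injective z)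
    fun b _ h => hfree _ h (isConj_iff.2 ⟨b * g, by group⟩)
  have hrM : r ∉ M := by
    intro hrM
    obtain ⟨⟨r₀, hr₀, e⟩, hrN⟩ := hr
    refine hg (hgrow r ⟨hrM, hrN⟩ hr2 hrT g hTg ?_)
    rwa [← e, show g⁻¹ * (MulAut.conj g).toMonoidHom r₀ * g = r₀ from
      (show g⁻¹ * (g * r₀ * g⁻¹) * g = r₀ by group)]
  -- pass to the quotient
  have hTN : T ≤ N := Subgroup.le_normalizer
  haveI : (T.subgroupOf N).Normal := Subgroup.normal_in_normalizer
  let q := QuotientGroup.mk' (T.subgroupOf N)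
  have hqT : ∀ n : N, q n = 1 ↔ (n : G) ∈ T := fun n => by
    rw [QuotientGroup.mk'_apply, QuotientGroup.eq_one_iff, Subgroup.mem_subgroupOf]
  let K := (M.subgroupOf N).map q
  have hqM : ∀ n : N, q n ∈ K ↔ (n : G) ∈ M := by
    intro n
    refine ⟨?_, fun h => ⟨n, h, rfl⟩⟩
    rintro ⟨m, hm, e⟩
    have h1 : ((m⁻¹ * n : N) : G) ∈ T := (hqT _).1 (by rw [map_mul, map_inv, e, inv_mul_cancel])
    have h2 := mul_mem (show (m : G) ∈ M from hm) (hTM h1)
    rwa [show (m : G) * ((m⁻¹ * n : N) : G) = n by simp] at h2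
  have hinvol : ∀ v : N ⧸ T.subgroupOf N, v * v = 1 → v ≠ 1 →
      ∃ n : N, q n = v ∧ (n : G) * n ∈ T ∧ (n : G) ∉ T := by
    intro v hv hv1
    obtain ⟨n, rfl⟩ := QuotientGroup.mk'_surjective _ v
    exact ⟨n, rfl, (hqT (n * n)).1 (by rw [map_mul]; exact hv), fun h => hv1 ((hqT n).2 h)⟩
  have hSE : ∀ v ∈ K, v * v = 1 → v ≠ 1 → ∀ c, c⁻¹ * v * c ∈ K → c ∈ K := by
    intro v hv hv2 hv1 c hc
    obtain ⟨n, rfl, hn2, hnT⟩ := hinvol v hv2 hv1
    obtain ⟨c, rfl⟩ := QuotientGroup.mk'_surjective _ c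
    rw [← map_inv, ← map_mul, ← map_mul, hqM] at hc
    refine (hqM c).2 (hgrow n ⟨(hqM n).1 hv, n.2⟩ hn2 hnT c (fun t ht => hTM ?_) hc)
    exact (Subgroup.mem_normalizer_iff''.1 c.2 t).1 ht
  have hcent : ∀ v ∈ K, v * v = 1 → v ≠ 1 → ∀ c, c * v = v * c → c ∈ K := fun v hv hv2 hv1 c hc =>
    hSE v hv hv2 hv1 c (by rwa [mul_assoc, ← hc, inv_mul_cancel_left])
  have mk : ∀ x : G, ∀ hx : x ∈ M ⊓ N, x * x ∈ T → x ∉ T →
      q ⟨x, hx.2⟩ ∈ K ∧ q ⟨x, hx.2⟩ * q ⟨x, hx.2⟩ = 1 ∧ q ⟨x, hx.2⟩ ≠ 1 := fun x hx h2 h1 =>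
    ⟨(hqM _).2 hx.1, by rw [← map_mul]; exact (hqT _).2 h2, fun e => h1 ((hqT _).1 e)⟩
  have hrq : q ⟨r, hr.2⟩ * q ⟨r, hr.2⟩ = 1 ∧ q ⟨r, hr.2⟩ ∉ K :=
    ⟨by rw [← map_mul]; exact (hqT _).2 hr2, fun h => hrM ((hqM _).1 h)⟩
  by_cases hTbot : T = ⊥
  · -- strongly embedded in the whole group
    have hcentG : ∀ v ∈ M, v * v = 1 → v ≠ 1 → ∀ c, c * v = v * c → c ∈ M := by
      intro v hv hv2 hv1 c hc
      refine hgrow v ⟨hv, ?_⟩ (by rw [hv2]; exact one_mem T) (fun h => hv1 ?_) c (fun t ht => ?_) ?_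
      · show v ∈ Subgroup.normalizer (T : Set G)
        rw [Subgroup.mem_normalizer_iff]; intro t; simp [hTbot, conj_eq_one_iff]
      · rwa [hTbot, Subgroup.mem_bot] at h
      · rw [hTbot, Subgroup.mem_bot] at ht
        rw [ht, mul_one, inv_mul_cancel]; exact one_mem M
      · rwa [mul_assoc, ← hc, inv_mul_cancel_left]
    have hvM : g₀ * z * g₀⁻¹ ∉ M := fun h => hg₀.2 (htwo g₀ _ (isConj_iff.2 ⟨g₀, rfl⟩) h
      (by rw [show g₀⁻¹ * (g₀ * z * g₀⁻¹) * g₀ = z by group]; exact hzM))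
    have hv2 : g₀ * z * g₀⁻¹ * (g₀ * z * g₀⁻¹) = 1 := by
      rw [show g₀ * z * g₀⁻¹ * (g₀ * z * g₀⁻¹) = g₀ * (z * z) * g₀⁻¹ by group, sq hz, mul_one,
        mul_inv_cancel]
    have hw1 : w ≠ 1 := fun e => by rw [e, orderOf_one] at hw; omega
    have h := isConj_outside hcentG hv2 hvM (sq hw) hw1 hwM
    exact hwz ((isConj_iff.2 ⟨g₀, rfl⟩ : IsConj z (g₀ * z * g₀⁻¹)).trans h.symm)
  rcases hT T hTM hT2 hTbot hfree with ⟨x, hx, y, hy, hx2, hxT, hy2, hyT, hxz, hyz⟩ |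
    ⟨hns, x, hx, y, hy, hx2, hxT, hy2, hyT, hxy, hcomm⟩ |
    ⟨x, ⟨hxM, hxC⟩, y, ⟨hyM, hyC⟩, hx2, hxT, hy2, hyT, hxyC⟩
  · obtain ⟨hxK, hxq, hx1⟩ := mk x hx hx2 hxT
    obtain ⟨hyK, hyq, hy1⟩ := mk y hy hy2 hyT
    obtain ⟨c, hc⟩ := isConj_iff.1 ((isConj_outside hcent hrq.1 hrq.2 hxq hx1 hxK).trans
      (isConj_outside hcent hrq.1 hrq.2 hyq hy1 hyK).symm)
    obtain ⟨c, rfl⟩ := QuotientGroup.mk'_surjective _ c
    rw [← map_inv, ← map_mul, ← map_mul] at hc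
    have ht : (y : G)⁻¹ * ((c : G) * x * (c : G)⁻¹) ∈ T :=
      (hqT (⟨y, hy.2⟩⁻¹ * (c * ⟨x, hx.2⟩ * c⁻¹))).1 (by rw [map_mul, map_inv, hc, inv_mul_cancel])
    obtain ⟨t₀, ht₀, hzc⟩ := hxz
    refine hyz ⟨_, mul_mem ht ((Subgroup.mem_normalizer_iff.1 c.2 t₀).1 ht₀), hzc.trans
      (isConj_iff.2 ⟨c, ?_⟩)⟩
    group
  · obtain ⟨hxK, hxq, hx1⟩ := mk x hx hx2 hxT
    obtain ⟨hyK, hyq, hy1⟩ := mk y hy hy2 hyT
    have hSE' : Cfsg.IsStronglyEmbedded K := by
      refine ⟨fun e => hrq.2 (e ▸ Subgroup.mem_top _), ?_, fun c hc => ?_⟩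
      · have hxo : orderOf (⟨_, hxK⟩ : K) = 2 := by
          rw [← Subgroup.orderOf_coe]; exact orderOf_eq_prime (by rw [pow_two]; exact hxq) hx1
        exact even_iff_two_dvd.2 (hxo ▸ orderOf_dvd_natCard _)
      · rw [Nat.odd_iff]
        by_contra hev
        obtain ⟨v, hv⟩ := exists_prime_orderOf_dvd_card'
          (G := ↥(K ⊓ K.map (MulAut.conj c).toMonoidHom)) 2 (by omega)
        rw [← Subgroup.orderOf_coe] at hv
        obtain ⟨hvK, v', hv', e⟩ := v.2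
        refine hc (hSE v hvK (by rw [← pow_two, ← hv, pow_orderOf_eq_one])
          (fun e => by rw [e, orderOf_one] at hv; omega) c ?_)
        rw [← show c * v' * c⁻¹ = (v : N ⧸ T.subgroupOf N) from e,
          show c⁻¹ * (c * v' * c⁻¹) * c = v' by group]
        exact hv'
    have hfour : ∃ s t : N ⧸ T.subgroupOf N, orderOf s = 2 ∧ orderOf t = 2 ∧ s ≠ t ∧ Commute s t := by
      refine ⟨_, _, orderOf_eq_prime (by rw [pow_two]; exact hxq) hx1,
        orderOf_eq_prime (by rw [pow_two]; exact hyq) hy1, fun e => hxy ((hqT (⟨x, hx.2⟩⁻¹ * ⟨y, hy.2⟩)).1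
          (by rw [map_mul, map_inv, e, inv_mul_cancel])), ?_⟩
      have h := (hqT ((⟨y, hy.2⟩ * ⟨x, hx.2⟩)⁻¹ * (⟨x, hx.2⟩ * ⟨y, hy.2⟩))).2 hcomm
      rw [map_mul, map_inv, map_mul, map_mul] at h
      exact (inv_mul_eq_one.1 h).symm
    have hsolK : Group.IsSolvable K :=
      CfsgLib.BenderQ.isSolvable_of_stronglyEmbedded CfsgLib.BenderQ.benderKernel hSE' hfour
    refine hns ?_
    haveI : Group.IsSolvable ↥(T.subgroupOf N) :=
      haveI : Group.IsNilpotent ↥(T.subgroupOf N) :=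
        (hT2.comap_of_injective N.subtype N.subtype_injective).isNilpotent
      inferInstance
    let i : ↥(M ⊓ N) →* N := Subgroup.inclusion inf_le_right
    let f : ↥(M ⊓ N) →* K := (q.comp i).codRestrict K fun a => (hqM _).2 a.2.1
    haveI hker : Group.IsSolvable f.ker := by
      refine Group.isSolvable_of_isSolvable_injective (f := (i.comp f.ker.subtype).codRestrict (T.subgroupOf N)
        fun a => (QuotientGroup.eq_one_iff _).1 (congrArg Subtype.val a.2)) fun a b h => ?_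
      exact Subtype.ext (Subtype.ext (congrArg (fun n : T.subgroupOf N => ((n : N) : G)) h))
    exact Group.isSolvable_of_ker_le_range f.ker.subtype f (by rw [Subgroup.range_subtype])
  · replace hxC : x ∈ Subgroup.centralizer (T : Set G) := hxC
    replace hyC : y ∈ Subgroup.centralizer (T : Set G) := hyC
    have hCN : Subgroup.centralizer (T : Set G) ≤ N := Subgroup.centralizer_le_normalizer _
    -- the centraliser of `T` does not lie in `M`
    obtain ⟨c, hcC, hcM⟩ : ∃ c ∈ Subgroup.centralizer (T : Set G), c ∉ M := by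
      by_contra hle
      push Not at hle
      refine hrM (hgrow x ⟨hxM, hCN hxC⟩ hx2 hxT r
        (fun t ht => hTM ((Subgroup.mem_normalizer_iff''.1 hr.2 t).1 ht)) (hle _ ?_))
      rw [Subgroup.mem_centralizer_iff] at hxC ⊢
      intro t ht
      have h := hxC (r * t * r⁻¹) ((Subgroup.mem_normalizer_iff.1 hr.2 t).1 ht)
      calc t * (r⁻¹ * x * r) = r⁻¹ * (r * t * r⁻¹ * x) * r := by group
        _ = r⁻¹ * x * r * t := by rw [h]; group
    let L : Subgroup (N ⧸ T.subgroupOf N) := ((Subgroup.centralizer (T : Set G)).subgroupOf N).map q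
    have inL : ∀ a : G, ∀ ha : a ∈ Subgroup.centralizer (T : Set G), q ⟨a, hCN ha⟩ ∈ L :=
      fun a ha => ⟨_, ha, rfl⟩
    obtain ⟨hxK, hxq, hx1⟩ := mk x ⟨hxM, hCN hxC⟩ hx2 hxT
    obtain ⟨hyK, hyq, hy1⟩ := mk y ⟨hyM, hCN hyC⟩ hy2 hyT
    have hvC : c * x * c⁻¹ ∈ Subgroup.centralizer (T : Set G) := mul_mem (mul_mem hcC hxC) (inv_mem hcC)
    set X : L := ⟨_, inL x hxC⟩
    set Y : L := ⟨_, inL y hyC⟩
    set C₀ : L := ⟨_, inL c hcC⟩
    set V : L := ⟨_, inL _ hvC⟩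
    have hV : V = C₀ * X * C₀⁻¹ := Subtype.ext (by
      show q ⟨c * x * c⁻¹, _⟩ = q ⟨c, _⟩ * q ⟨x, _⟩ * (q ⟨c, _⟩)⁻¹
      rw [← map_inv, ← map_mul, ← map_mul]
      rfl)
    have hX2 : X * X = 1 := Subtype.ext hxq
    have hVK : (V : N ⧸ T.subgroupOf N) ∉ K := by
      intro h
      refine hcM ((hqM ⟨c, hCN hcC⟩).1 (hSE (V : N ⧸ T.subgroupOf N) h ?_ ?_ _ ?_))
      · rw [hV]
        exact congrArg Subtype.val (show C₀ * X * C₀⁻¹ * (C₀ * X * C₀⁻¹) = 1 by
          rw [show C₀ * X * C₀⁻¹ * (C₀ * X * C₀⁻¹) = C₀ * (X * X) * C₀⁻¹ by group, hX2, mul_one,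
            mul_inv_cancel])
      · rw [hV]
        intro e
        exact hx1 (congrArg Subtype.val (conj_eq_one_iff.1 (Subtype.ext e : C₀ * X * C₀⁻¹ = 1)))
      · rw [hV]
        show ((C₀⁻¹ * (C₀ * X * C₀⁻¹) * C₀ : L) : N ⧸ T.subgroupOf N) ∈ K
        rw [show C₀⁻¹ * (C₀ * X * C₀⁻¹) * C₀ = X by group]
        exact hxK
    have hV2 : V * V = 1 := by
      rw [hV, show C₀ * X * C₀⁻¹ * (C₀ * X * C₀⁻¹) = C₀ * (X * X) * C₀⁻¹ by group, hX2, mul_one,
        mul_inv_cancel]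
    have hH : ∀ v ∈ K.subgroupOf L, v * v = 1 → v ≠ 1 → ∀ a, a * v = v * a → a ∈ K.subgroupOf L :=
      fun v hv hv2 hv1 a ha => hcent v hv (congrArg Subtype.val hv2) (fun e => hv1 (Subtype.ext e)) a
        (congrArg Subtype.val ha)
    obtain ⟨d, hd⟩ := isConj_iff.1 ((isConj_outside hH hV2 (fun h => hVK h) hX2
      (fun e => hx1 (congrArg Subtype.val e)) hxK).trans (isConj_outside hH hV2 (fun h => hVK h)
      (Subtype.ext hyq : Y * Y = 1) (fun e => hy1 (congrArg Subtype.val e)) hyK).symm)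
    obtain ⟨d', hd'C, hd'⟩ := d.2
    have hdq : q d' * q ⟨x, hCN hxC⟩ * (q d')⁻¹ = q ⟨y, hCN hyC⟩ := by
      rw [hd']; exact congrArg Subtype.val hd
    have hdM : (d' : G) ∈ M := (hqM d').1 (hSE _ hyK hyq hy1 _ (by
      rw [← hdq, show (q d')⁻¹ * (q d' * q ⟨x, hCN hxC⟩ * (q d')⁻¹) * q d' = q ⟨x, hCN hxC⟩ by group]
      exact hxK))
    refine hxyC d' ⟨hdM, hd'C⟩ ((hqT (⟨y, hCN hyC⟩⁻¹ * (d' * ⟨x, hCN hxC⟩ * d'⁻¹))).1 ?_)
    rw [map_mul, map_inv, map_mul, map_mul, map_inv, hdq, inv_mul_cancel]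

/-- The three criteria do not change under conjugation in `M`. -/
theorem criteria_of_conj {T : Subgroup G} {a : G} (ha : a ∈ M)
    (h : Kinds z M (T.map (MulAut.conj a).toMonoidHom) ∨ Wide M (T.map (MulAut.conj a).toMonoidHom) ∨
      Central M (T.map (MulAut.conj a).toMonoidHom)) : Kinds z M T ∨ Wide M T ∨ Central M T := by
  set e := MulAut.conj a
  set T' := T.map e.toMonoidHom
  have hM : ∀ x, a * x * a⁻¹ ∈ M ↔ x ∈ M := fun x => by
    rw [Subgroup.mul_mem_cancel_right _ (inv_mem ha), Subgroup.mul_mem_cancel_left _ ha]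
  have hmem : ∀ x, a * x * a⁻¹ ∈ T' ↔ x ∈ T := fun x => Subgroup.mem_map_iff_mem (f := e.toMonoidHom) e.injective
  have hback : ∀ x, x ∈ T' → a⁻¹ * x * a ∈ T := by
    rintro _ ⟨t, ht, rfl⟩
    show a⁻¹ * (a * t * a⁻¹) * a ∈ T
    rwa [show a⁻¹ * (a * t * a⁻¹) * a = t by group]
  have hNorm : ∀ x, a * x * a⁻¹ ∈ Subgroup.normalizer (T' : Set G) ↔ x ∈ Subgroup.normalizer (T : Set G) := by
    intro x
    rw [← Subgroup.map_equiv_normalizer_eq T e]
    exact Subgroup.mem_map_iff_mem (f := e.toMonoidHom) e.injective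
  have hsurj : ∀ x, x = a * (a⁻¹ * x * a) * a⁻¹ := fun x => by group
  have hconj : ∀ x, IsConj z (a * x * a⁻¹) ↔ IsConj z x := fun x =>
    ⟨fun h => h.trans (isConj_iff.2 ⟨a⁻¹, by group⟩), fun h => h.trans (isConj_iff.2 ⟨a, rfl⟩)⟩
  have hmark : ∀ x, Marked z T' x ↔ Marked z T (a⁻¹ * x * a) := by
    intro x
    constructor
    · rintro ⟨t, ht, hc⟩
      refine ⟨_, hback t ht, (hconj _).1 ?_⟩
      rwa [show a * (a⁻¹ * x * a * (a⁻¹ * t * a)) * a⁻¹ = x * t by group]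
    · rintro ⟨t, ht, hc⟩
      refine ⟨_, (hmem t).2 ht, ?_⟩
      have h := (hconj _).2 hc
      rwa [show a * (a⁻¹ * x * a * t) * a⁻¹ = x * (a * t * a⁻¹) by group] at h
  have hback' : ∀ x, x ∈ M ⊓ Subgroup.normalizer (T' : Set G) →
      a⁻¹ * x * a ∈ M ⊓ Subgroup.normalizer (T : Set G) := fun x hx =>
    ⟨(hM _).1 (by rw [← hsurj x]; exact hx.1), (hNorm _).1 (by rw [← hsurj x]; exact hx.2)⟩
  have hsq : ∀ x, x * x ∈ T' → a⁻¹ * x * a * (a⁻¹ * x * a) ∈ T := fun x hx => by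
    rw [show a⁻¹ * x * a * (a⁻¹ * x * a) = a⁻¹ * (x * x) * a by group]; exact hback _ hx
  have hnot : ∀ x, x ∉ T' → a⁻¹ * x * a ∉ T := fun x hx h => hx (by rw [hsurj x]; exact (hmem _).2 h)
  have hCent : ∀ x, a * x * a⁻¹ ∈ Subgroup.centralizer (T' : Set G) ↔ x ∈ Subgroup.centralizer (T : Set G) := by
    intro x
    rw [Subgroup.mem_centralizer_iff, Subgroup.mem_centralizer_iff]
    constructor
    · intro h t ht
      have h' := h _ ((hmem t).2 ht)
      have h'' : a * (t * x) * a⁻¹ = a * (x * t) * a⁻¹ := by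
        calc a * (t * x) * a⁻¹ = a * t * a⁻¹ * (a * x * a⁻¹) := by group
          _ = _ := by rw [h']; group
      exact mul_left_cancel (mul_right_cancel h'')
    · intro h t ht
      have h' := h _ (hback t ht)
      calc t * (a * x * a⁻¹) = a * (a⁻¹ * t * a * x) * a⁻¹ := by group
        _ = _ := by rw [h']; group
  rcases h with ⟨x, hx, y, hy, h1, h2, h3, h4, h5, h6⟩ |
    ⟨hns, x, hx, y, hy, h1, h2, h3, h4, h5, h6⟩ | ⟨x, hx, y, hy, h1, h2, h3, h4, h5⟩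
  · refine Or.inl ⟨_, hback' x hx, _, hback' y hy, hsq x h1, hnot x h2, hsq y h3, hnot y h4,
      (hmark x).1 h5, fun h => h6 ((hmark y).2 h)⟩
  · refine Or.inr (Or.inl ⟨fun hs => hns ?_, _, hback' x hx, _, hback' y hy, hsq x h1, hnot x h2, hsq y h3,
      hnot y h4, ?_, ?_⟩)
    · haveI := hs
      let f : ↥(M ⊓ Subgroup.normalizer (T : Set G)) →* ↥(M ⊓ Subgroup.normalizer (T' : Set G)) :=
        ((e.toMonoidHom).comp (Subgroup.subtype _)).codRestrict _ fun v =>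
          ⟨(hM _).2 v.2.1, (hNorm _).2 v.2.2⟩
      exact Group.isSolvable_of_surjective (f := f) fun v => ⟨⟨_, hback' v v.2⟩, Subtype.ext (hsurj v).symm⟩
    · rw [show (a⁻¹ * x * a)⁻¹ * (a⁻¹ * y * a) = a⁻¹ * (x⁻¹ * y) * a by group]
      exact hnot _ h5
    · rw [show (a⁻¹ * y * a * (a⁻¹ * x * a))⁻¹ * (a⁻¹ * x * a * (a⁻¹ * y * a)) =
        a⁻¹ * ((y * x)⁻¹ * (x * y)) * a by group]
      exact hback _ h6
  · have hbC : ∀ v, v ∈ M ⊓ Subgroup.centralizer (T' : Set G) →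
        a⁻¹ * v * a ∈ M ⊓ Subgroup.centralizer (T : Set G) := fun v hv =>
      ⟨(hM _).1 (by rw [← hsurj v]; exact hv.1), (hCent _).1 (by rw [← hsurj v]; exact hv.2)⟩
    refine Or.inr (Or.inr ⟨_, hbC x hx, _, hbC y hy, hsq x h1, hnot x h2, hsq y h3, hnot y h4, fun c hc h => ?_⟩)
    refine h5 (a * c * a⁻¹) ⟨(hM _).2 hc.1, (hCent _).2 hc.2⟩ ?_
    have h' := (hmem _).2 h
    rwa [show a * ((a⁻¹ * y * a)⁻¹ * (c * (a⁻¹ * x * a) * c⁻¹)) * a⁻¹ =
      y⁻¹ * (a * c * a⁻¹ * x * (a * c * a⁻¹)⁻¹) by group] at h'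


/-- The same, the subgroups being needed only inside the centraliser of `z` when this has odd index. -/
theorem eq_top_of_odd (hz : orderOf z = 2) (hC : Subgroup.centralizer ({z} : Set G) ≤ M)
    (hfus : ∀ u ∈ M, IsConj z u → ∃ m ∈ M, m * z * m⁻¹ = u)
    (hodd : Odd ((Subgroup.centralizer ({z} : Set G)).subgroupOf M).index)
    {w : G} (hwM : w ∈ M) (hw : orderOf w = 2) (hwz : ¬ IsConj z w)
    (hT : ∀ T : Subgroup G, T ≤ Subgroup.centralizer ({z} : Set G) → IsPGroup 2 T → T ≠ ⊥ → Free z T →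
      Kinds z M T ∨ Wide M T ∨ Central M T) : M = ⊤ := by
  classical
  refine eq_top hz hC hfus hwM hw hwz fun T hTM hT2 hTne hfree => ?_
  have : Fact (Nat.Prime 2) := ⟨Nat.prime_two⟩
  set C := (Subgroup.centralizer ({z} : Set G)).subgroupOf M
  obtain ⟨P⟩ : Nonempty (Sylow 2 C) := inferInstance
  have hP : IsPGroup 2 ((P : Subgroup C).map C.subtype) := P.isPGroup'.map _
  obtain ⟨S, hS⟩ := hP.exists_le_sylow
  have hcard : Nat.card (S : Subgroup M) ≤ Nat.card ((P : Subgroup C).map C.subtype) := by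
    rw [Subgroup.card_map_of_injective C.subtype_injective, P.card_eq_multiplicity, S.card_eq_multiplicity,
      ← Subgroup.card_mul_index C, Nat.factorization_mul Nat.card_pos.ne' hodd.pos.ne']
    simp [Nat.factorization_eq_zero_of_not_dvd (fun h => hodd.not_two_dvd_nat h)]
  have hSC : (S : Subgroup M) ≤ C :=
    (Subgroup.eq_of_le_of_card_ge hS hcard).ge.trans (Subgroup.map_subtype_le _)
  obtain ⟨R, hR⟩ := (hT2.comap_of_injective M.subtype M.subtype_injective).exists_le_sylow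
  obtain ⟨m, hm⟩ := MulAction.exists_smul_eq M R S
  refine criteria_of_conj (a := (m : G)) m.2 ?_
  set a : G := (m : G)
  set e := MulAut.conj a
  set T' := T.map e.toMonoidHom
  have hT'C : T' ≤ Subgroup.centralizer ({z} : Set G) := by
    rintro _ ⟨t, ht, rfl⟩
    have hmem : m * ⟨t, hTM ht⟩ * m⁻¹ ∈ (S : Subgroup M) := by
      rw [← hm, Sylow.coe_subgroup_smul]
      exact Subgroup.smul_mem_pointwise_smul _ (MulAut.conj m) _ (hR (show (⟨t, hTM ht⟩ : M) ∈ T.comap M.subtype from ht))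
    exact hSC hmem
  refine hT T' hT'C (hT2.map _)
    (fun h => hTne ((Subgroup.map_eq_bot_iff_of_injective T (f := e.toMonoidHom) e.injective).1 h)) ?_
  rintro _ ⟨t, ht, rfl⟩ hc
  exact hfree t ht (hc.trans (isConj_iff.2 ⟨a⁻¹, show a⁻¹ * (a * t * a⁻¹) * a⁻¹⁻¹ = t by group⟩))

end CfsgLib.HeUnique
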